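import Groth.Agent.SpQS.ElemNbhd
import Groth.Agent.S9752

/-!
# Branch numbers along elementary etale neighbourhoods of an algebraic space
-/

universe u

open CategoryTheory CategoryTheory.Limits AlgebraicGeometry Opposite IsLocalRing

set_option backward.isDefEq.respectTransparency false

namespace Groth.Agent.ElemBranch

open _root_.AlgSp Groth.Agent.AlgSpLib Groth.Agent.SpQS

variable {S : Scheme.{u}}

/-- minimal primes are counted no larger below a flat local homomorphism -/
theorem encard_minimalPrimes_le_of_flat {A B : Type u} [CommRing A] [IsLocalRing A] [CommRing B] [IsLocalRing B]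
    (f : A →+* B) [IsLocalHom f] (hf : f.Flat) : (minimalPrimes A).encard ≤ (minimalPrimes B).encard := by
  algebraize [f]
  haveI : IsLocalHom (algebraMap A B) := ‹IsLocalHom f›
  haveI : Module.FaithfullyFlat A B := Module.FaithfullyFlat.of_flat_of_isLocalHom
  refine le_trans (Set.encard_le_encard fun P hP => ?_) (Set.encard_image_le (Ideal.comap (algebraMap A B)) _)
  obtain ⟨Q, hQ⟩ := PrimeSpectrum.comap_surjective_of_faithfullyFlat (A := A) (B := B) ⟨P, hP.1.1⟩
  obtain ⟨Q', hQ', hle⟩ := Ideal.exists_minimalPrimes_le (I := ⊥) (J := Q.asIdeal) bot_le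
  refine ⟨Q', hQ', ?_⟩
  have := hQ'.1.1
  have hle' : Q'.comap (algebraMap A B) ≤ P :=
    (Ideal.comap_mono hle).trans (congrArg PrimeSpectrum.asIdeal hQ).le
  exact le_antisymm hle' (hP.2 ⟨inferInstance, bot_le⟩ hle')

/-- a morphism between etale neighbourhoods is etale -/
theorem etale_left {X : Sp S} (hX : IsAlgSpace X) {U W : Over S} {a : (yon S).obj U ⟶ X}
    {a' : (yon S).obj W ⟶ X} (ha : RepWith @Etale a) (ha' : RepWith @Etale a') (g : W ⟶ U)
    (hg : (yon S).map g ≫ a = a') : Etale g.left := by
  obtain ⟨R, t, s, sq⟩ := exists_pullback hX.diag a a'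
  have hte : Etale t.left := (repWith_yon_iff t).1 (repWith_baseChange sq.flip ha')
  have hse : Etale s.left := (repWith_yon_iff s).1 (repWith_baseChange sq ha)
  obtain ⟨δ, hδ⟩ := exists_map_eq (sq.lift ((yon S).map g) (𝟙 _) (by rw [hg, Category.id_comp]))
  have hδt : δ ≫ t = g := (yon S).map_injective (by rw [Functor.map_comp, hδ, sq.lift_fst])
  have hδs : δ ≫ s = 𝟙 _ := (yon S).map_injective
    (by rw [Functor.map_comp, hδ, sq.lift_snd, CategoryTheory.Functor.map_id])
  have : Etale δ.left := by
    have h' : Etale (δ.left ≫ s.left) := by rw [← Over.comp_left, hδs]; exact (inferInstance : Etale (𝟙 W.left))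
    exact MorphismProperty.of_postcomp (W := @Etale) (W' := @Etale) δ.left s.left hse h'
  rw [← hδt, Over.comp_left]
  infer_instance

/-- the morphism of field points induced by a morphism of schemes over `S` -/
noncomputable def resHom {U W : Over S} (g : W ⟶ U) (w : W.left) : resPt W w ⟶ resPt U (g.left w) :=
  Over.homMk (Spec.map (g.left.residueFieldMap w)) (by
    show Spec.map (g.left.residueFieldMap w) ≫ U.left.fromSpecResidueField (g.left w) ≫ U.hom = _
    rw [Scheme.Hom.SpecMap_residueFieldMap_fromSpecResidueField_assoc, Over.w g]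
    rfl)

theorem resHom_inc {U W : Over S} (g : W ⟶ U) (w : W.left) : resHom g w ≫ resInc U (g.left w) = resInc W w ≫ g :=
  Over.OverMorphism.ext (g.left.SpecMap_residueFieldMap_fromSpecResidueField w)

/-- a morphism of elementary etale neighbourhoods is an elementary etale neighbourhood -/
theorem isEtaleNbhd_of_map {X : Sp S} (hX : IsAlgSpace X) {x : Points X} {U W : Over S} {a : (yon S).obj U ⟶ X}
    {a' : (yon S).obj W ⟶ X} (ha : RepWith @Etale a) {w : W.left} (hw : IsElemEtaleNbhd a' w x) (g : W ⟶ U)
    (hg : (yon S).map g ≫ a = a') : Hens2.IsEtaleNbhd g.left w (g.left w) := by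
  refine ⟨etale_left hX ha hw.etale g hg, rfl, ?_⟩
  have hm := hw.mono
  rw [elem_toHom, ← hg, ← Category.assoc, ← Functor.map_comp, ← resHom_inc g w, Functor.map_comp,
    Category.assoc] at hm
  have : Mono ((yon S).map (resHom g w)) := mono_of_mono _ ((yon S).map (resInc U (g.left w)) ≫ a)
  have : IsIso ((yon S).map (resHom g w)) := isIso_of_mono_to_field
    (U.left.fromSpecResidueField (g.left w) ≫ U.hom) (IsAlgSpace.yon_obj _) _
    (Points.ofScheme (resPt W w) (closedPoint (W.left.residueField w)))
  have : IsIso (resHom g w) := isIso_of_reflects_iso _ (yon S)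
  have : IsIso ((resHom g w).left) := inferInstanceAs (IsIso ((Over.forget S).map (resHom g w)))
  have : IsIso (Spec.map (g.left.residueFieldMap w)) := this
  have : IsIso (Scheme.Spec.map (g.left.residueFieldMap w).op) := by assumption
  have : IsIso (g.left.residueFieldMap w).op := isIso_of_reflects_iso _ Scheme.Spec
  have : IsIso (g.left.residueFieldMap w) := (isIso_op_iff _).1 this
  exact (ConcreteCategory.isIso_iff_bijective _).1 this

/-- elementary etale neighbourhoods compose -/
theorem elem_comp {X : Sp S} {x : Points X} {U : Over S} {a : (yon S).obj U ⟶ X} {u : U.left}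
    (hu : IsElemEtaleNbhd a u x) {W : Scheme.{u}} {g : W ⟶ U.left} {w : W} (hg : Hens2.IsEtaleNbhd g w u) :
    IsElemEtaleNbhd ((yon S).map (Over.homMk g rfl : Over.mk (g ≫ U.hom) ⟶ U) ≫ a) w x := by
  obtain ⟨het, hbase, hres⟩ := hg
  have hbase' : g w = u := hbase
  clear hbase
  subst hbase'
  let G : Over.mk (g ≫ U.hom) ⟶ U := Over.homMk g rfl
  have hG : Etale G.left := het
  refine ⟨repWith_comp ((repWith_yon_iff G).2 hG) hu.etale, ?_, ?_⟩
  · rw [ofPt_comp]
    exact hu.ofPt_eq
  · have : IsIso (Spec.map (g.residueFieldMap w)) := by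
      have : IsIso (g.residueFieldMap w) := (ConcreteCategory.isIso_iff_bijective _).2 hres
      infer_instance
    have : IsIso ((Over.forget S).map (resHom G w)) := this
    have : IsIso (resHom G w) := isIso_of_reflects_iso _ (Over.forget S)
    have hm := hu.mono
    rw [elem_toHom] at hm
    rw [elem_toHom, ← Category.assoc, ← Functor.map_comp, ← resHom_inc G w, Functor.map_comp, Category.assoc]
    haveI : Mono ((yon S).map (resInc U (G.left w)) ≫ a) := hm
    exact mono_comp _ _

/-- local rings of elementary etale neighbourhoods have at most as many minimal primes as there are branches -/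
theorem encard_le_numBranchesAt {X : Sp S} (hX : IsAlgSpace X) {x : Points X} {U V : Over S}
    {a : (yon S).obj U ⟶ X} {b : (yon S).obj V ⟶ X} {u : U.left} {v : V.left}
    (hu : IsElemEtaleNbhd a u x) (hv : IsElemEtaleNbhd b v x) :
    (minimalPrimes (V.left.presheaf.stalk v)).encard ≤ Brnch.numBranchesAt U.left u := by
  obtain ⟨W, c, w, g₁, g₂, hw, hc₁, hc₂, hu', hv'⟩ := elem_cofiltered_dominate hX x hu hv
  have h₁ := isEtaleNbhd_of_map hX hu.etale hw g₁ hc₁
  have : Etale g₂.left := (isEtaleNbhd_of_map hX hv.etale hw g₂ hc₂).etale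
  subst hu'
  subst hv'
  refine (encard_minimalPrimes_le_of_flat (g₂.left.stalkMap w).hom (Flat.stalkMap g₂.left w)).trans ?_
  rw [S9752.result U.left (g₁.left w), ← BranchSup.components_encard w]
  exact le_iSup_of_le W.left (le_iSup_of_le g₁.left (le_iSup_of_le w (le_iSup_of_le h₁ le_rfl)))

/-- the branch number is bounded by any bound on the elementary etale neighbourhoods -/
theorem numBranchesAt_le {X : Sp S} {x : Points X} {U : Over S} {a : (yon S).obj U ⟶ X} {u : U.left}
    (hu : IsElemEtaleNbhd a u x) {n : ℕ∞} (h : ∀ (V : Over S) (b : (yon S).obj V ⟶ X) (v : V.left),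
      IsElemEtaleNbhd b v x → (minimalPrimes (V.left.presheaf.stalk v)).encard ≤ n) :
    Brnch.numBranchesAt U.left u ≤ n := by
  rw [S9752.result U.left u]
  refine iSup_le fun W => iSup_le fun g => iSup_le fun w => iSup_le fun hg => ?_
  have h' := @h (Over.mk (g ≫ U.hom))
  have h'' := h' _ w (elem_comp hu hg)
  rw [BranchSup.components_encard w]
  exact h''

/-- the branch number does not depend on the elementary etale neighbourhood -/
theorem numBranchesAt_eq {X : Sp S} (hX : IsAlgSpace X) {x : Points X} {U V : Over S}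
    {a : (yon S).obj U ⟶ X} {b : (yon S).obj V ⟶ X} {u : U.left} {v : V.left}
    (hu : IsElemEtaleNbhd a u x) (hv : IsElemEtaleNbhd b v x) :
    Brnch.numBranchesAt U.left u = Brnch.numBranchesAt V.left v :=
  le_antisymm (numBranchesAt_le hu fun _ _ _ h => encard_le_numBranchesAt hX hv h)
    (numBranchesAt_le hv fun _ _ _ h => encard_le_numBranchesAt hX hu h)

/-- the branch number is the number of minimal primes of a henselization -/
theorem encard_henselization {T : Scheme.{u}} (t : T) (R : Type u) [CommRing R] [IsLocalRing R]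
    [Algebra ↥(T.presheaf.stalk t) R] [IsLocalHom (algebraMap ↥(T.presheaf.stalk t) R)]
    [Hensel.IsHenselization ↥(T.presheaf.stalk t) R] :
    (minimalPrimes R).encard = Brnch.numBranchesAt T t :=
  Groth.Agent.Hensel.card_minimalPrimes_henselization (A := T.presheaf.stalk t) (S := R)

theorem hasUniqueMinimalPrime_iff (A : Type u) [CommRing A] :
    CAlgX.HasUniqueMinimalPrime A ↔ (minimalPrimes A).encard = 1 := by
  rw [Set.encard_eq_one]
  constructor
  · rintro ⟨P, hP, hu⟩
    exact ⟨P, Set.eq_singleton_iff_unique_mem.2 ⟨hP, hu⟩⟩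
  · rintro ⟨P, hP⟩
    exact ⟨P, (Set.eq_singleton_iff_unique_mem.1 hP).1, (Set.eq_singleton_iff_unique_mem.1 hP).2⟩

end Groth.Agent.ElemBranch
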